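import Cfsg.Agent.H678.DG.Basic
import Cfsg.Agent.H678.DG.Mathieu
import Cfsg.Agent.H417.DegMTwentyFour
import Cfsg.Agent.H417.DegMTwentyThree
import Cfsg.Agent.H417.DegMTwentyTwo
import Cfsg.Agent.H417.RecogMathieu

/-!
# Degree graph facts for the large Mathieu groups (helper653)

* `facts_m22`, `facts_m23`, `facts_m24`.
-/

set_option autoImplicit false

namespace Cfsg.Agent.H653.Spor.Mathieu

open Cfsg Cfsg.Agent.Characters.Core Cfsg.Agent.H678.DG

universe u

theorem im_m22 {S : Type u} [Group S] [Finite S] (h : Cfsg.IsM22 S) {d : ℕ}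
    (hd : d ∈ [55, 99, 210, 231, 385]) : H671.H5.IM d S := by
  obtain ⟨f, hf⟩ := H417.DegMTwentyTwo.exists_enum h
  have key : ∀ i : Fin 12, H671.H5.IM (M22.DegreesEnd.LB.getD i 0) S := fun i => ⟨f i, by rw [hf i]⟩
  have h2 : ∀ d ∈ [55, 99, 210, 231, 385], ∃ i : Fin 12, M22.DegreesEnd.LB.getD i 0 = d := by decide +kernel
  obtain ⟨i, hi⟩ := h2 d hd
  rw [← hi]
  exact key i

/-- The degree graph of `M22`. -/
theorem facts_m22 {S : Type u} [Group S] (h : Cfsg.Spor.IsoM22 S) : Facts S := by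
  have h' := H417.RecogMathieu.isM22 h
  have : Finite S := Nat.finite_of_card_ne_zero (by rw [h'.2]; norm_num)
  refine Facts.of_list (P := [2, 3, 5, 7, 11]) (D := [55, 99, 210, 231, 385]) ?_ (by decide)
    (mem_of_card (f := fun _ => 7) ?_ ?_) (fun d hd => im_m22 h' hd) (by decide +kernel)
  · intro p hp; fin_cases hp <;> norm_num
  · rw [h'.2]; decide +kernel
  · intro p hp; fin_cases hp <;> norm_num

theorem im_m23 {S : Type u} [Group S] [Finite S] (h : Cfsg.IsM23 S) {d : ℕ}
    (hd : d ∈ [230, 45, 1035, 231, 2024, 896]) : H671.H5.IM d S := by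
  obtain ⟨hs, H, z, v, a, b, c, d, g, h, b₁, c₁, K⟩ := H417.DegMTwentyThree.exists_elev' h
  have key : ∀ (χ : IrrCharacter S) (n : ℕ), M23Order.Base.dg χ = n → H671.H5.IM n S :=
    fun χ n hn => ⟨χ, by rw [← hn]; exact dvd_rfl⟩
  simp only [List.mem_cons, List.not_mem_nil, or_false] at hd
  rcases hd with rfl | rfl | rfl | rfl | rfl | rfl
  · exact key _ _ K.dga
  · exact key _ _ K.dgb
  · exact key _ _ K.dgd
  · exact key _ _ K.dgg
  · exact key _ _ K.dgh
  · exact key _ _ K.dgb₁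

/-- The degree graph of `M23`. -/
theorem facts_m23 {S : Type u} [Group S] (h : Cfsg.Spor.IsoM23 S) : Facts S := by
  have h' := H417.RecogMathieu.isM23 h
  have : Finite S := Nat.finite_of_card_ne_zero (by rw [h'.2]; norm_num)
  refine Facts.of_list (P := [2, 3, 5, 7, 11, 23]) (D := [230, 45, 1035, 231, 2024, 896]) ?_ (by decide)
    (mem_of_card (f := fun _ => 7) ?_ ?_) (fun d hd => im_m23 h' hd) (by decide +kernel)
  · intro p hp; fin_cases hp <;> norm_num
  · rw [h'.2]; decide +kernel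
  · intro p hp; fin_cases hp <;> norm_num

theorem im_m24 {S : Type u} [Group S] [Finite S] (h : Cfsg.IsM24 S) {d : ℕ}
    (hd : d ∈ [1035, 5796, 1771, 2024, 5544, 990]) : H671.H5.IM d S := by
  have := h.1
  obtain ⟨H⟩ := M24Order.Final.exists_hyp h.2
  have : Fact (Nat.Prime 5) := ⟨by norm_num⟩
  have : Fact (Nat.Prime 7) := ⟨by norm_num⟩
  obtain ⟨R⟩ : Nonempty (Sylow 5 S) := inferInstance
  obtain ⟨T⟩ : Nonempty (Sylow 7 S) := inferInstance
  obtain ⟨K, M, B, ε, a, b, c, d, h5, ⟨K', M', D, a', h7⟩ | ⟨K', M', B', ε', l', h7⟩⟩ :=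
    SporadicA.M24.Convert.exists_blocks H R T
  · obtain ⟨t, v, Θ, Θ', L⟩ := M24Order.ToLast.exists_last H h5 h7
    have key : ∀ (χ : IrrCharacter S) (n : ℕ), M23Order.Base.dg χ = n → H671.H5.IM n S :=
      fun χ n hn => ⟨χ, by rw [← hn]; exact dvd_rfl⟩
    simp only [List.mem_cons, List.not_mem_nil, or_false] at hd
    rcases hd with rfl | rfl | rfl | rfl | rfl | rfl
    · exact key _ _ L.d1035
    · exact key _ _ L.d5796
    · exact key _ _ L.d1771
    · exact key _ _ L.d2024
    · exact key _ _ L.d5544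
    · exact key _ _ L.d990
  · exact (S0422.six_false (SporadicA.M24.Convert.conv H) h5 h7).elim

/-- The degree graph of `M24`. -/
theorem facts_m24 {S : Type u} [Group S] (h : Cfsg.Spor.IsoM24 S) : Facts S := by
  have h' := H417.RecogMathieu.isM24 h
  have : Finite S := Nat.finite_of_card_ne_zero (by rw [h'.2]; norm_num)
  refine Facts.of_list (P := [2, 3, 5, 7, 11, 23]) (D := [1035, 5796, 1771, 2024, 5544, 990]) ?_ (by decide)
    (mem_of_card (f := fun _ => 10) ?_ ?_) (fun d hd => im_m24 h' hd) (by decide +kernel)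
  · intro p hp; fin_cases hp <;> norm_num
  · rw [h'.2]; decide +kernel
  · intro p hp; fin_cases hp <;> norm_num

end Cfsg.Agent.H653.Spor.Mathieu
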