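import Cfsg.Agent.H653.Spor.J4DzCert
import Cfsg.Agent.H417.JFourDeg

/-!
# `J₄` has irreducible characters of degree divisible by the full power of `p`, `p ≠ 2, 5` (helper653)
-/

set_option autoImplicit false

namespace Cfsg.Agent.H653.Spor.J4Dz

open Cfsg Cfsg.Agent.Characters.Core Cfsg.Agent.H653.Sys Cfsg.Agent.H653.Sieve Cfsg.Agent.H653.Graph
open Subgroup Cfsg.Agent.H859.BigNum Cfsg.Agent.H858

universe u

theorem card_K : Nat.card Spor.J4 = 86775571046077562880 := H860.PartFiveSeven.card_J4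

theorem isoK : Spor.IsoJ4 Spor.J4 := ⟨MulEquiv.refl _⟩

theorem cent_all : ∀ D ∈ Ds, D.Cent Spor.J4 := by
  have ex : ∀ p : ℕ, p.Prime → p ∣ Nat.card Spor.J4 → ∃ x : Spor.J4, orderOf x = p := by
    intro p hp hd
    have := Fact.mk hp
    have : Finite Spor.J4 := H337.finite_of_isoJ4 isoK
    exact exists_prime_orderOf_dvd_card' (G := Spor.J4) p hd
  have key : ∀ p : ℕ, p.Prime → p ∣ 86775571046077562880 → (∀ P : Subgroup Spor.J4, Nat.card P = p →
      Nat.card (centralizer (P : Set Spor.J4)) = p) → ∃ x : Spor.J4, orderOf x = p ∧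
        Nat.card (centralizer ({x} : Set Spor.J4)) = p * 1 := by
    intro p hp hd h
    obtain ⟨x, hx⟩ := ex p hp (by rw [card_K]; exact hd)
    exact ⟨x, hx, by rw [H417.JFourDeg.cent_of h x hx, mul_one]⟩
  intro D hD
  simp only [Ds, List.mem_cons, List.not_mem_nil, or_false] at hD
  rcases hD with rfl | rfl | rfl | rfl | rfl
  · exact key 43 (by norm_num) (by norm_num) fun P hP => (data43 hP).1
  · exact key 37 (by norm_num) (by norm_num) fun P hP => (data37 hP).1
  · exact key 31 (by norm_num) (by norm_num) fun P hP => (data31 hP).1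
  · exact key 29 (by norm_num) (by norm_num) fun P hP => (data29' hP).1
  · exact key 23 (by norm_num) (by norm_num) fun P hP => (data23 hP).1

/-- **Degrees divisible by the full power of `p`.** -/
theorem cl_all [Fintype (IrrCharacter Spor.J4)] : Cl Spor.J4 [27] ∧ Cl Spor.J4 [7] ∧ Cl Spor.J4 [1331] ∧ Cl Spor.J4 [23] ∧
    Cl Spor.J4 [29] ∧ Cl Spor.J4 [31] ∧ Cl Spor.J4 [37] ∧ Cl Spor.J4 [43] := by
  have hfin : Finite Spor.J4 := H337.finite_of_isoJ4 isoK
  have hsim : IsSimpleGroup Spor.J4 := (KFacts.J4.Base.exists_full isoK).2.1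
  have T := tab card_K cent_all (by simp [Cs])
  exact ⟨cl_1 T, cl_2 T, cl_3 T, cl_4 T, cl_5 T, cl_6 T, cl_7 T, cl_8 T⟩

/-- **`J₄`: degrees of defect zero.** -/
theorem exists_deg {S : Type u} [Group S] (h : Spor.IsoJ4 S) {m : ℕ} (hm : m ∈ [27, 7, 1331, 23, 29, 31, 37, 43]) :
    ∃ d ∈ charDegrees S, m ∣ d := by
  obtain ⟨e⟩ := h
  rw [H424.DegTools.charDegrees_congr e]
  have hfin : Finite Spor.J4 := H337.finite_of_isoJ4 isoK
  have := finite_irr (G := Spor.J4)
  let _ := Fintype.ofFinite (IrrCharacter Spor.J4)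
  have key : ∀ n : ℕ, Cl Spor.J4 [n] → ∃ d ∈ charDegrees Spor.J4, n ∣ d := by
    rintro n ⟨k, hk, χ, hχ⟩
    rw [List.mem_singleton] at hk
    subst hk
    exact ⟨_, ⟨χ, rfl⟩, hχ⟩
  obtain ⟨h1, h2, h3, h4, h5, h6, h7, h8⟩ := cl_all
  simp only [List.mem_cons, List.not_mem_nil, or_false] at hm
  rcases hm with rfl | rfl | rfl | rfl | rfl | rfl | rfl | rfl
  · exact key _ h1
  · exact key _ h2
  · exact key _ h3
  · exact key _ h4
  · exact key _ h5
  · exact key _ h6
  · exact key _ h7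
  · exact key _ h8

end Cfsg.Agent.H653.Spor.J4Dz
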