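import Cfsg.Agent.H678.DG.Basic
import Cfsg.Agent.H870.IMFiTwentyTwo

/-!
# The degree graph of `Fi₂₂` (helper653)

The degrees 429 and 3080 of the rank 3 permutation character on the transpositions (or 1430 and 2079, which the
arithmetic allows) are enough.
-/

set_option autoImplicit false

namespace Cfsg.Agent.H653.Spor.Fi22

open Cfsg Cfsg.Agent.Characters.Core Cfsg.Agent.H690.Spor.RankThree Cfsg.Agent.LThreeFi22 Cfsg.Agent.H870.IMFi22
open Cfsg.Agent.H678.DG

universe u v

theorem facts_ctx {K : Type v} [Group K] {T : Set K} (C : Ctx K T) : Facts K := by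
  classical
  let _ := act C
  have := C.finite
  have h := r3 C
  have hX : Finite T := by
    apply Nat.finite_of_card_ne_zero
    rw [h.cardn]
    omega
  have := Fintype.ofFinite T
  obtain ⟨χ₁, χ₂, f, g, D, h1, h2, -, h3, h4, h5⟩ := h.frame
  have e1 : charDegree (χ₁ : K → ℂ) = f := Cfsg.Agent.Blocks.Basic.charDegree_of_eq h1
  have e2 : charDegree (χ₂ : K → ℂ) = g := Cfsg.Agent.Blocks.Basic.charDegree_of_eq h2
  have hP : ∀ p ∈ Cfsg.degreePrimes K, p ∈ [2, 3, 5, 7, 11, 13] := by
    refine mem_of_card (f := fun p => if p = 2 then 17 else if p = 3 then 9 else if p = 5 then 2 else 1) ?_ (by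
      intro p hp
      simp only [List.mem_cons, List.not_mem_nil, or_false] at hp
      rcases hp with rfl | rfl | rfl | rfl | rfl | rfl <;> norm_num)
    rw [C.card]
    norm_num
  have key : ∀ a b : ℕ, f = a → g = b → ok [2, 3, 5, 7, 11, 13] [a, b] = true → Facts K := by
    rintro a b rfl rfl hok
    refine Facts.of_list (P := [2, 3, 5, 7, 11, 13]) (D := [f, g]) (by
      intro p hp
      simp only [List.mem_cons, List.not_mem_nil, or_false] at hp
      rcases hp with rfl | rfl | rfl | rfl | rfl | rfl <;> norm_num) (by decide) hP ?_ hok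
    intro d hd
    simp only [List.mem_cons, List.not_mem_nil, or_false] at hd
    rcases hd with rfl | rfl
    · exact ⟨χ₁, by rw [e1]⟩
    · exact ⟨χ₂, by rw [e2]⟩
  rcases degrees h3 h4 h5 with (⟨h6, h7⟩ | ⟨h6, h7⟩) | (⟨h6, h7⟩ | ⟨h6, h7⟩)
  all_goals exact key _ _ h6 h7 (by decide)

/-- **The degree graph of `Fi₂₂`.** -/
theorem facts_fi22 {S : Type u} [Group S] (h : Spor.IsoFi22 S) : Facts S := by
  obtain ⟨e⟩ := h
  exact facts_ctx (Inst.ctx e)

end Cfsg.Agent.H653.Spor.Fi22
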