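import Cfsg.Agent.H653.Spor.Fi24Cert
import Cfsg.Agent.H161.Rec.Fi24Facts
import Cfsg.Agent.H30.GraphFi24A

/-!
# The degree graph of `Fi₂₄'`: connected, a triangle, distances at most three (helper653)

The degrees 57477 and 249458 (helper30), Ito-Michler for 5 and 13, and the columns of the elements of order 29, 23, 17.
-/

set_option autoImplicit false

namespace Cfsg.Agent.H653.Spor.Fi24

open Cfsg Cfsg.Agent.Characters.Core Cfsg.Agent.H653.Sys Cfsg.Agent.H653.Sieve Cfsg.Agent.H653.Graph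
open Subgroup Cfsg.Agent.H30.GraphFi24

universe u

theorem cent_all : ∀ D ∈ Ds, D.Cent Spor.Fi24' := by
  intro D hD
  simp only [Ds, List.mem_cons, List.not_mem_nil, or_false] at hD
  rcases hD with rfl | rfl | rfl
  · obtain ⟨x, hx, hc⟩ := H161.Rec.FiTF.cent29
    exact ⟨x, hx, by rw [hc, mul_one]⟩
  · obtain ⟨x, hx, hc⟩ := H161.Rec.FiTF.cent23
    exact ⟨x, hx, by rw [hc, mul_one]⟩
  · obtain ⟨x, hx, hc⟩ := H161.Rec.FiTF.cent17
    exact ⟨x, hx, by rw [hc, mul_one]⟩

theorem im_F {p : ℕ} (hp : p.Prime) (hd : p ∣ 1255205709190661721292800) :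
    ∃ χ : IrrCharacter Spor.Fi24', p ∣ charDegree (χ : Spor.Fi24' → ℂ) := by
  have := Fact.mk hp
  have hfin : Finite Spor.Fi24' := finite_Fi24'
  exact H30.IMFi24.im_fi24 (S := Spor.Fi24') ⟨MulEquiv.refl _⟩ (by rw [card_F]; exact hd)

theorem facts' : DistFacts Spor.Fi24' := by
  classical
  have hfin : Finite Spor.Fi24' := finite_Fi24'
  have hsim : IsSimpleGroup Spor.Fi24' := R08.FiTwentyFour.isFi24'.1
  have := finite_irr (G := Spor.Fi24')
  let _ := Fintype.ofFinite (IrrCharacter Spor.Fi24')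
  obtain ⟨e1, e2⟩ := exists_deg
  have e5 := im_F (p := 5) (by norm_num) (by norm_num)
  have e13 := im_F (p := 13) (by norm_num) (by norm_num)
  refine dist_of (ctx card_F cent_all ?_) ?_
  · intro c hc
    simp only [Cs, List.mem_cons, List.not_mem_nil, or_false] at hc
    rcases hc with rfl | rfl | rfl | rfl
    · exact condEq_holds e1
    · exact condEq_holds e2
    · exact condDv_holds e5
    · exact condDv_holds e13
  · intro c hc
    simp only [List.mem_cons, List.not_mem_nil, or_false] at hc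
    rcases hc with rfl | rfl | rfl | rfl
    · obtain ⟨χ, hχ⟩ := e1
      exact ⟨57477, by simp, χ, by rw [hχ]⟩
    · obtain ⟨χ, hχ⟩ := e2
      exact ⟨249458, by simp, χ, by rw [hχ]⟩
    · exact ⟨5, by simp, e5⟩
    · exact ⟨13, by simp, e13⟩

/-- **The degree graph of `Fi₂₄'`.** -/
theorem facts {S : Type u} [Group S] (h : Spor.IsoFi24' S) : DistFacts S := by
  obtain ⟨e⟩ := h
  exact facts'.of_equiv e

end Cfsg.Agent.H653.Spor.Fi24
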