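import Cfsg.Agent.H653.Spor.J1Cert
import Cfsg.Agent.H417.JOneDeg

/-!
# The degree graph of `J₁` (helper653)
-/

set_option autoImplicit false

namespace Cfsg.Agent.H653.Spor.J1

open Cfsg Cfsg.Agent.Characters.Core Cfsg.Agent.H653.Sys Cfsg.Agent.H653.Sieve Cfsg.Agent.H653.Graph
open Subgroup Cfsg.Agent.H413.JOneSpec Cfsg.Agent.SporRec.J1.Defs

universe u

theorem facts_local {K : Type u} [Group K] [Finite K] [IsSimpleGroup K] (h : Local K) (hc : Nat.card K = 175560) :
    GraphFacts K := by
  classical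
  have := finite_irr (G := K)
  have := Fintype.ofFinite (IrrCharacter K)
  have ex : ∀ p : ℕ, p.Prime → p ∣ Nat.card K → ∃ x : K, orderOf x = p := by
    intro p hp hd
    have := Fact.mk hp
    exact exists_prime_orderOf_dvd_card' (G := K) p hd
  have hbig : ∀ p : ℕ, Big p → p.Prime → p ∣ 175560 → ∃ x : K, orderOf x = p ∧
      Nat.card (centralizer ({x} : Set K)) = p * 1 := by
    intro p hb hp hd
    obtain ⟨x, hx⟩ := ex p hp (by rw [hc]; exact hd)
    refine ⟨x, hx, ?_⟩
    rw [H417.JOneDeg.card_cent h hc (by rw [hx]; exact hb), hx, mul_one]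
  refine facts_of (ctx_of_primes (L := L) (Cs := Cs) hc (by norm_num) (by decide +kernel) (by decide +kernel)
    (by decide +kernel) ?_ (by simp [Cs])) (by simp)
  intro D hD
  simp only [Ds, List.mem_cons, List.not_mem_nil, or_false] at hD
  rcases hD with rfl | rfl | rfl | rfl | rfl
  · exact hbig 19 (by unfold Big; tauto) (by norm_num) (by norm_num)
  · exact hbig 11 (by unfold Big; tauto) (by norm_num) (by norm_num)
  · exact hbig 7 (by unfold Big; tauto) (by norm_num) (by norm_num)
  · obtain ⟨x, hx⟩ := ex 5 (by norm_num) (by rw [hc]; norm_num)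
    exact ⟨x, hx, h.cent5 x hx⟩
  · obtain ⟨x, hx⟩ := ex 3 (by norm_num) (by rw [hc]; norm_num)
    exact ⟨x, hx, h.cent3 x hx⟩

theorem facts (S : Type u) [Group S] (h : Spor.IsoJ1 S) : GraphFacts S := by
  obtain ⟨e⟩ := h
  have : IsSimpleGroup Spor.J1 := SporadicB.J1.Main.isJ1.1
  have hfin : Finite Spor.J1 := Nat.finite_of_card_ne_zero (by rw [H413.JOneLocal.card_J1]; norm_num)
  exact (facts_local H413.JOneLocal.isLocal H413.JOneLocal.card_J1).of_equiv e

end Cfsg.Agent.H653.Spor.J1
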