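import Cfsg.Agent.H653.Spor.LyCert
import Cfsg.Agent.H655.LySixtySeven
import Cfsg.Agent.H655.LyThirtySeven
import Cfsg.Agent.H314.LyOrb.Deg
import Cfsg.Agent.H314.IMLy
import Cfsg.Agent.H678.DG.Basic

/-!
# The degree graph of `Ly` (helper653)

The degrees 45694, 1534500, 3028266, 4226695 (helper314), Ito-Michler for 7, and the columns of the elements of order 67
and 37 (centralizers: helper655, from the classification).
-/

set_option autoImplicit false

namespace Cfsg.Agent.H653.Spor.Ly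

open Cfsg Cfsg.Agent.Characters.Core Cfsg.Agent.H653.Sys Cfsg.Agent.H653.Sieve Cfsg.Agent.H653.Graph
open Subgroup

universe u

theorem cent_all (hK : H995.CopEngine.AllKnown.{0}) : ∀ D ∈ Ds, D.Cent Spor.Ly := by
  have hI : Spor.IsoLy Spor.Ly := ⟨MulEquiv.refl _⟩
  have hfin : Finite Spor.Ly := Cfsg.Agent.Ly.Setup.finite_ly
  have ex : ∀ p : ℕ, p.Prime → p ∣ 51765179004000000 → ∃ x : Spor.Ly, orderOf x = p := by
    intro p hp hd
    have := Fact.mk hp
    exact exists_prime_orderOf_dvd_card' (G := Spor.Ly) p (by rw [Cfsg.Agent.Ly.Setup.card_ly]; exact hd)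
  intro D hD
  simp only [Ds, List.mem_cons, List.not_mem_nil, or_false] at hD
  rcases hD with rfl | rfl
  · obtain ⟨x, hx⟩ := ex 67 (by norm_num) (by norm_num)
    exact ⟨x, hx, by rw [H655.LySixtySeven.card_centralizer hK hI hx, mul_one]⟩
  · obtain ⟨x, hx⟩ := ex 37 (by norm_num) (by norm_num)
    exact ⟨x, hx, by rw [H655.LyThirtySeven.card_centralizer37 hK hI hx, mul_one]⟩

theorem facts_ly' (hK : H995.CopEngine.AllKnown.{0}) : H678.DG.Facts Spor.Ly := by
  classical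
  have hfin : Finite Spor.Ly := Cfsg.Agent.Ly.Setup.finite_ly
  have hsim : IsSimpleGroup Spor.Ly := Cfsg.Agent.Ly.Setup.isSimple_ly
  have := finite_irr (G := Spor.Ly)
  let _ := Fintype.ofFinite (IrrCharacter Spor.Ly)
  obtain ⟨χ, -, hχ⟩ := H314.LyOrb.exists_deg_ly
  have e1 : ∃ χ : IrrCharacter Spor.Ly, charDegree (χ : Spor.Ly → ℂ) = 45694 := ⟨χ 1, hχ 1⟩
  have e2 : ∃ χ : IrrCharacter Spor.Ly, charDegree (χ : Spor.Ly → ℂ) = 1534500 := ⟨χ 2, hχ 2⟩
  have e3 : ∃ χ : IrrCharacter Spor.Ly, charDegree (χ : Spor.Ly → ℂ) = 3028266 := ⟨χ 3, hχ 3⟩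
  have e4 : ∃ χ : IrrCharacter Spor.Ly, charDegree (χ : Spor.Ly → ℂ) = 4226695 := ⟨χ 4, hχ 4⟩
  have e7 : ∃ χ : IrrCharacter Spor.Ly, 7 ∣ charDegree (χ : Spor.Ly → ℂ) :=
    H314.IMLy.im_ly' (by norm_num) (by rw [Cfsg.Agent.Ly.Setup.card_ly]; norm_num)
  have T := tab Cfsg.Agent.Ly.Setup.card_ly (cent_all hK) (by
    intro c hc
    simp only [Cs, List.mem_cons, List.not_mem_nil, or_false] at hc
    rcases hc with rfl | rfl | rfl | rfl | rfl
    · exact condEq_holds e1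
    · exact condEq_holds e2
    · exact condEq_holds e3
    · exact condEq_holds e4
    · exact condDv_holds e7)
  have im_of : ∀ n : ℕ, Cl Spor.Ly [n] → H33.IM n Spor.Ly := by
    rintro n ⟨k, hk, χ, hχ⟩
    rw [List.mem_singleton] at hk
    subst hk
    exact ⟨χ, hχ⟩
  have hpr : ∀ p ∈ [7, 37, 5, 3, 2, 11, 31, 67], p.Prime := by
    intro p hp
    simp only [List.mem_cons, List.not_mem_nil, or_false] at hp
    rcases hp with rfl | rfl | rfl | rfl | rfl | rfl | rfl | rfl <;> norm_num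
  refine H678.DG.Facts.of_list (P := [7, 37, 5, 3, 2, 11, 31, 67]) (D := [45694, 1534500, 3028266, 4226695, 14, 21])
    hpr (by decide) (H678.DG.mem_of_card (f := fun p => if p = 2 then 8 else if p = 3 then 7 else if p = 5 then 6 else 1)
      (by rw [Cfsg.Agent.Ly.Setup.card_ly]; norm_num) hpr) ?_ (by decide +kernel)
  intro d hd
  simp only [List.mem_cons, List.not_mem_nil, or_false] at hd
  rcases hd with rfl | rfl | rfl | rfl | rfl | rfl
  · obtain ⟨χ, hχ⟩ := e1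
    exact ⟨χ, by rw [hχ]⟩
  · obtain ⟨χ, hχ⟩ := e2
    exact ⟨χ, by rw [hχ]⟩
  · obtain ⟨χ, hχ⟩ := e3
    exact ⟨χ, by rw [hχ]⟩
  · obtain ⟨χ, hχ⟩ := e4
    exact ⟨χ, by rw [hχ]⟩
  · exact im_of 14 (cl_1 T)
  · exact im_of 21 (cl_2 T)

/-- **The degree graph of `Ly`.** -/
theorem facts_ly (hK : H995.CopEngine.AllKnown.{0}) {S : Type u} [Group S] (h : Spor.IsoLy S) : H678.DG.Facts S := by
  obtain ⟨e⟩ := h
  exact H678.DG.Facts.of_equiv e (facts_ly' hK)

end Cfsg.Agent.H653.Spor.Ly
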