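import Cfsg.Agent.H653.Spor.RuCert
import Cfsg.Agent.H870.IMRu
import Cfsg.Agent.H436.TwoRu
import Cfsg.Agent.H671.Spor.MTwentyTwo

/-!
# The degree graph of `Ru` (helper653)

The degrees 783 and 3276 of the rank 3 permutation character, a degree divisible by 5, and the column of the elements
of order 29.
-/

set_option autoImplicit false

namespace Cfsg.Agent.H653.Spor.Ru

open Cfsg Cfsg.Agent.Characters.Core Cfsg.Agent.H653.Sys Cfsg.Agent.H653.Sieve Cfsg.Agent.H653.Graph
open Subgroup Cfsg.Agent.SporadicB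

universe u

theorem cent_all : ∀ D ∈ Ds, D.Cent RuOrder.H := by
  have := H436.TwoRu.finite_H
  intro D hD
  simp only [Ds, List.mem_cons, List.not_mem_nil, or_false] at hD
  subst hD
  have hf : Fact (Nat.Prime 29) := ⟨by norm_num⟩
  obtain ⟨x, hx⟩ := exists_prime_orderOf_dvd_card' (G := RuOrder.H) 29 (by rw [RuOrder.card_H]; norm_num)
  refine ⟨x, hx, ?_⟩
  have h1 := H436.TwoRu.cent29 x hx
  have h2 : 29 ∣ Nat.card ↥(centralizer ({x} : Set RuOrder.H)) := by
    have h3 : x ∈ centralizer ({x} : Set RuOrder.H) := mem_centralizer_singleton_iff.2 rfl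
    have := Subgroup.orderOf_dvd_natCard _ h3
    rwa [hx] at this
  exact Nat.dvd_antisymm h1 (by simpa using h2)

theorem im_degs : H33.IM 783 RuOrder.H ∧ H33.IM 3276 RuOrder.H := by
  have := H436.TwoRu.finite_H
  obtain ⟨R, hR⟩ := H690.Spor.Ru.r3
  have h := H671.MFacts.im_of_chkf hR (Or.inl (by decide)) (f0 := 783) (g0 := 3276) rfl (by decide +kernel)
  exact h

theorem facts_H : DistFacts RuOrder.H := by
  classical
  have := H436.TwoRu.finite_H
  have hsim : IsSimpleGroup RuOrder.H := RuSimple.isSimpleGroup_H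
  have := finite_irr (G := RuOrder.H)
  let _ := Fintype.ofFinite (IrrCharacter RuOrder.H)
  obtain ⟨h1, h2⟩ := im_degs
  have h5 : H33.IM 5 RuOrder.H := H870.IMRu.im_five
  refine dist_of (tab RuOrder.card_H cent_all ?_) ?_
  · intro c hc
    simp only [Cs, List.mem_cons, List.not_mem_nil, or_false] at hc
    rcases hc with rfl | rfl | rfl
    · exact condDv_holds h1
    · exact condDv_holds h2
    · exact condDv_holds h5
  · intro c hc
    simp only [List.mem_cons, List.not_mem_nil, or_false] at hc
    rcases hc with rfl | rfl | rfl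
    · exact ⟨783, by simp, h1⟩
    · exact ⟨3276, by simp, h2⟩
    · exact ⟨5, by simp, h5⟩

/-- **The degree graph of `Ru`.** -/
theorem facts {S : Type u} [Group S] (h : Spor.IsoRu S) : DistFacts S := by
  obtain ⟨e⟩ := h
  exact facts_H.of_equiv (e.trans RuLat.Main.equiv)

end Cfsg.Agent.H653.Spor.Ru
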