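import Cfsg.Agent.H653.Sieve.Fast

/-!
# The degree graph of Fi24prime: certificates (helper653)
-/

set_option autoImplicit false
set_option Elab.async false
set_option maxRecDepth 100000
set_option maxHeartbeats 4000000
set_option linter.unusedSectionVars false

namespace Cfsg.Agent.H653.Spor.Fi24

open Cfsg Cfsg.Agent.Characters.Core Cfsg.Agent.H653.Sys Cfsg.Agent.H653.Sieve Cfsg.Agent.H653.Graph
open Cfsg.Agent.H653.Fast
open Cfsg.Agent.H590.NB.Fast (maskOK pre)

universe u

def L : List (ℕ × ℕ) := [(29, 1), (23, 1), (17, 1), (13, 1), (11, 1), (7, 3), (5, 2), (3, 16), (2, 21)]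

def Ds : List PD := [⟨29, 1, 14, 2, [(0, 0), (1, 2), (14, -1), (15, 1), (28, -2)], 58, 2, true⟩,
  ⟨23, 1, 11, 2, [(0, 0), (1, 2), (11, -1), (12, 1), (22, -2)], 46, 2, true⟩,
  ⟨17, 1, 16, 1, [(0, 0), (1, 1), (16, -1)], 17, 0, false⟩]

def Cs : List Cond := [condEq 57477, condEq 249458, condDv 5, condDv 13]

/-- the admissible residues -/
def Ms : List (ℕ × ℕ) := [(29, 268484611), (23, 4200451), (17, 65539)]

/-- the certificates -/
def Cts : List Cert := [⟨[6, 14, 15, 26, 87, 221, 299], 0,
    [⟨0, 0, 25104114183813234426, [4184019030635539071, 0]⟩, ⟨0, 0, 8368038061271078142, [8368038061271078142]⟩, ⟨0, 0, 0, []⟩],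
    [0, 0, 0, -46024209336990929781]⟩,
  ⟨[26, 65, 91, 221, 377], 0,
    [⟨0, 0, 0, [0, 0]⟩, ⟨0, 0, 0, [0]⟩, ⟨0, 0, 0, []⟩],
    [0, 0, 0, -12552057091906617213]⟩,
  ⟨[15, 26, 35, 115, 145], 0,
    [⟨0, 0, 0, [0, 0]⟩, ⟨0, 0, 0, [0]⟩, ⟨0, 0, 0, []⟩],
    [0, 0, -12552057091906617213, 0]⟩,
  ⟨[10, 39, 85, 115, 145], 0,
    [⟨0, 0, 0, [0, 0]⟩, ⟨0, 0, 0, [0]⟩, ⟨0, 0, 0, []⟩],
    [0, 0, -12552057091906617213, 0]⟩,
  ⟨[26, 39, 299, 377], 0,
    [⟨0, 0, 0, [0, 0]⟩, ⟨0, 0, 0, [0]⟩, ⟨0, 0, 0, []⟩],
    [0, 0, 0, -12552057091906617213]⟩,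
  ⟨[10, 15, 35, 115], 0,
    [⟨0, 0, 0, [0, 0]⟩, ⟨0, 0, 0, [0]⟩, ⟨0, 0, 0, []⟩],
    [0, 0, -12552057091906617213, 0]⟩]

theorem hMs : maskOK Ds Ms = true := by decide +kernel

theorem hHead : headOK 1255205709190661721292800 Ds Cs Cts = true := by decide +kernel

/-! The search over the degrees is cut into small pieces (to keep each kernel check small). -/

theorem splitS {N : ℕ} {f : ℕ → Bool} {p a : ℕ} {L : List (ℕ × ℕ)} {d e : ℕ} (he : d * p = e)
    (h1 : allDiv N f L d = true) (h2 : allDiv N f ((p, a) :: L) e = true) : allDiv N f ((p, a + 1) :: L) d = true := by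
  subst he
  show (bif Nat.ble N (d * d) then true else (allDiv N f L d && allDiv N f ((p, a) :: L) (d * p))) = true
  rw [h1, h2]
  cases Nat.ble N (d * d) <;> rfl

theorem splitZ {N : ℕ} {f : ℕ → Bool} {p : ℕ} {L : List (ℕ × ℕ)} {d : ℕ}
    (h1 : allDiv N f L d = true) : allDiv N f ((p, 0) :: L) d = true := h1

theorem hC_0_0_0 : allDiv 1255205709190661721292800
    (fun d => bif pre Ms d then okAll 1255205709190661721292800 (Ds.map PD.fam) Cs d Cts else true)
    [(13, 1), (11, 1), (7, 3), (5, 2), (3, 16), (2, 21)] 1 = true := by decide +kernel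

theorem hC_0_0_1_0 : allDiv 1255205709190661721292800
    (fun d => bif pre Ms d then okAll 1255205709190661721292800 (Ds.map PD.fam) Cs d Cts else true)
    [(11, 1), (7, 3), (5, 2), (3, 16), (2, 21)] 17 = true := by decide +kernel

theorem hC_0_0_1_1 : allDiv 1255205709190661721292800
    (fun d => bif pre Ms d then okAll 1255205709190661721292800 (Ds.map PD.fam) Cs d Cts else true)
    [(11, 1), (7, 3), (5, 2), (3, 16), (2, 21)] 221 = true := by decide +kernel

theorem hC_0_0_1 : allDiv 1255205709190661721292800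
    (fun d => bif pre Ms d then okAll 1255205709190661721292800 (Ds.map PD.fam) Cs d Cts else true)
    [(13, 1), (11, 1), (7, 3), (5, 2), (3, 16), (2, 21)] 17 = true :=
  splitS (by decide) hC_0_0_1_0 (splitZ hC_0_0_1_1)

theorem hC_0_0 : allDiv 1255205709190661721292800
    (fun d => bif pre Ms d then okAll 1255205709190661721292800 (Ds.map PD.fam) Cs d Cts else true)
    [(17, 1), (13, 1), (11, 1), (7, 3), (5, 2), (3, 16), (2, 21)] 1 = true :=
  splitS (by decide) hC_0_0_0 (splitZ hC_0_0_1)

theorem hC_0_1_0_0 : allDiv 1255205709190661721292800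
    (fun d => bif pre Ms d then okAll 1255205709190661721292800 (Ds.map PD.fam) Cs d Cts else true)
    [(11, 1), (7, 3), (5, 2), (3, 16), (2, 21)] 23 = true := by decide +kernel

theorem hC_0_1_0_1 : allDiv 1255205709190661721292800
    (fun d => bif pre Ms d then okAll 1255205709190661721292800 (Ds.map PD.fam) Cs d Cts else true)
    [(11, 1), (7, 3), (5, 2), (3, 16), (2, 21)] 299 = true := by decide +kernel

theorem hC_0_1_0 : allDiv 1255205709190661721292800
    (fun d => bif pre Ms d then okAll 1255205709190661721292800 (Ds.map PD.fam) Cs d Cts else true)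
    [(13, 1), (11, 1), (7, 3), (5, 2), (3, 16), (2, 21)] 23 = true :=
  splitS (by decide) hC_0_1_0_0 (splitZ hC_0_1_0_1)

theorem hC_0_1_1_0_0_0 : allDiv 1255205709190661721292800
    (fun d => bif pre Ms d then okAll 1255205709190661721292800 (Ds.map PD.fam) Cs d Cts else true)
    [(5, 2), (3, 16), (2, 21)] 391 = true := by decide +kernel

theorem hC_0_1_1_0_0_1 : allDiv 1255205709190661721292800
    (fun d => bif pre Ms d then okAll 1255205709190661721292800 (Ds.map PD.fam) Cs d Cts else true)
    [(5, 2), (3, 16), (2, 21)] 2737 = true := by decide +kernel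

theorem hC_0_1_1_0_0_2 : allDiv 1255205709190661721292800
    (fun d => bif pre Ms d then okAll 1255205709190661721292800 (Ds.map PD.fam) Cs d Cts else true)
    [(5, 2), (3, 16), (2, 21)] 19159 = true := by decide +kernel

theorem hC_0_1_1_0_0_3 : allDiv 1255205709190661721292800
    (fun d => bif pre Ms d then okAll 1255205709190661721292800 (Ds.map PD.fam) Cs d Cts else true)
    [(5, 2), (3, 16), (2, 21)] 134113 = true := by decide +kernel

theorem hC_0_1_1_0_0 : allDiv 1255205709190661721292800
    (fun d => bif pre Ms d then okAll 1255205709190661721292800 (Ds.map PD.fam) Cs d Cts else true)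
    [(7, 3), (5, 2), (3, 16), (2, 21)] 391 = true :=
  splitS (by decide) hC_0_1_1_0_0_0 (splitS (by decide) hC_0_1_1_0_0_1 (splitS (by decide) hC_0_1_1_0_0_2 (splitZ hC_0_1_1_0_0_3)))

theorem hC_0_1_1_0_1 : allDiv 1255205709190661721292800
    (fun d => bif pre Ms d then okAll 1255205709190661721292800 (Ds.map PD.fam) Cs d Cts else true)
    [(7, 3), (5, 2), (3, 16), (2, 21)] 4301 = true := by decide +kernel

theorem hC_0_1_1_0 : allDiv 1255205709190661721292800
    (fun d => bif pre Ms d then okAll 1255205709190661721292800 (Ds.map PD.fam) Cs d Cts else true)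
    [(11, 1), (7, 3), (5, 2), (3, 16), (2, 21)] 391 = true :=
  splitS (by decide) hC_0_1_1_0_0 (splitZ hC_0_1_1_0_1)

theorem hC_0_1_1_1_0 : allDiv 1255205709190661721292800
    (fun d => bif pre Ms d then okAll 1255205709190661721292800 (Ds.map PD.fam) Cs d Cts else true)
    [(7, 3), (5, 2), (3, 16), (2, 21)] 5083 = true := by decide +kernel

theorem hC_0_1_1_1_1 : allDiv 1255205709190661721292800
    (fun d => bif pre Ms d then okAll 1255205709190661721292800 (Ds.map PD.fam) Cs d Cts else true)
    [(7, 3), (5, 2), (3, 16), (2, 21)] 55913 = true := by decide +kernel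

theorem hC_0_1_1_1 : allDiv 1255205709190661721292800
    (fun d => bif pre Ms d then okAll 1255205709190661721292800 (Ds.map PD.fam) Cs d Cts else true)
    [(11, 1), (7, 3), (5, 2), (3, 16), (2, 21)] 5083 = true :=
  splitS (by decide) hC_0_1_1_1_0 (splitZ hC_0_1_1_1_1)

theorem hC_0_1_1 : allDiv 1255205709190661721292800
    (fun d => bif pre Ms d then okAll 1255205709190661721292800 (Ds.map PD.fam) Cs d Cts else true)
    [(13, 1), (11, 1), (7, 3), (5, 2), (3, 16), (2, 21)] 391 = true :=
  splitS (by decide) hC_0_1_1_0 (splitZ hC_0_1_1_1)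

theorem hC_0_1 : allDiv 1255205709190661721292800
    (fun d => bif pre Ms d then okAll 1255205709190661721292800 (Ds.map PD.fam) Cs d Cts else true)
    [(17, 1), (13, 1), (11, 1), (7, 3), (5, 2), (3, 16), (2, 21)] 23 = true :=
  splitS (by decide) hC_0_1_0 (splitZ hC_0_1_1)

theorem hC_0 : allDiv 1255205709190661721292800
    (fun d => bif pre Ms d then okAll 1255205709190661721292800 (Ds.map PD.fam) Cs d Cts else true)
    [(23, 1), (17, 1), (13, 1), (11, 1), (7, 3), (5, 2), (3, 16), (2, 21)] 1 = true :=
  splitS (by decide) hC_0_0 (splitZ hC_0_1)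

theorem hC_1_0_0_0 : allDiv 1255205709190661721292800
    (fun d => bif pre Ms d then okAll 1255205709190661721292800 (Ds.map PD.fam) Cs d Cts else true)
    [(11, 1), (7, 3), (5, 2), (3, 16), (2, 21)] 29 = true := by decide +kernel

theorem hC_1_0_0_1 : allDiv 1255205709190661721292800
    (fun d => bif pre Ms d then okAll 1255205709190661721292800 (Ds.map PD.fam) Cs d Cts else true)
    [(11, 1), (7, 3), (5, 2), (3, 16), (2, 21)] 377 = true := by decide +kernel

theorem hC_1_0_0 : allDiv 1255205709190661721292800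
    (fun d => bif pre Ms d then okAll 1255205709190661721292800 (Ds.map PD.fam) Cs d Cts else true)
    [(13, 1), (11, 1), (7, 3), (5, 2), (3, 16), (2, 21)] 29 = true :=
  splitS (by decide) hC_1_0_0_0 (splitZ hC_1_0_0_1)

theorem hC_1_0_1_0_0_0 : allDiv 1255205709190661721292800
    (fun d => bif pre Ms d then okAll 1255205709190661721292800 (Ds.map PD.fam) Cs d Cts else true)
    [(5, 2), (3, 16), (2, 21)] 493 = true := by decide +kernel

theorem hC_1_0_1_0_0_1 : allDiv 1255205709190661721292800
    (fun d => bif pre Ms d then okAll 1255205709190661721292800 (Ds.map PD.fam) Cs d Cts else true)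
    [(5, 2), (3, 16), (2, 21)] 3451 = true := by decide +kernel

theorem hC_1_0_1_0_0_2 : allDiv 1255205709190661721292800
    (fun d => bif pre Ms d then okAll 1255205709190661721292800 (Ds.map PD.fam) Cs d Cts else true)
    [(5, 2), (3, 16), (2, 21)] 24157 = true := by decide +kernel

theorem hC_1_0_1_0_0_3 : allDiv 1255205709190661721292800
    (fun d => bif pre Ms d then okAll 1255205709190661721292800 (Ds.map PD.fam) Cs d Cts else true)
    [(5, 2), (3, 16), (2, 21)] 169099 = true := by decide +kernel

theorem hC_1_0_1_0_0 : allDiv 1255205709190661721292800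
    (fun d => bif pre Ms d then okAll 1255205709190661721292800 (Ds.map PD.fam) Cs d Cts else true)
    [(7, 3), (5, 2), (3, 16), (2, 21)] 493 = true :=
  splitS (by decide) hC_1_0_1_0_0_0 (splitS (by decide) hC_1_0_1_0_0_1 (splitS (by decide) hC_1_0_1_0_0_2 (splitZ hC_1_0_1_0_0_3)))

theorem hC_1_0_1_0_1_0 : allDiv 1255205709190661721292800
    (fun d => bif pre Ms d then okAll 1255205709190661721292800 (Ds.map PD.fam) Cs d Cts else true)
    [(5, 2), (3, 16), (2, 21)] 5423 = true := by decide +kernel

theorem hC_1_0_1_0_1_1 : allDiv 1255205709190661721292800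
    (fun d => bif pre Ms d then okAll 1255205709190661721292800 (Ds.map PD.fam) Cs d Cts else true)
    [(5, 2), (3, 16), (2, 21)] 37961 = true := by decide +kernel

theorem hC_1_0_1_0_1_2 : allDiv 1255205709190661721292800
    (fun d => bif pre Ms d then okAll 1255205709190661721292800 (Ds.map PD.fam) Cs d Cts else true)
    [(5, 2), (3, 16), (2, 21)] 265727 = true := by decide +kernel

theorem hC_1_0_1_0_1_3 : allDiv 1255205709190661721292800
    (fun d => bif pre Ms d then okAll 1255205709190661721292800 (Ds.map PD.fam) Cs d Cts else true)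
    [(5, 2), (3, 16), (2, 21)] 1860089 = true := by decide +kernel

theorem hC_1_0_1_0_1 : allDiv 1255205709190661721292800
    (fun d => bif pre Ms d then okAll 1255205709190661721292800 (Ds.map PD.fam) Cs d Cts else true)
    [(7, 3), (5, 2), (3, 16), (2, 21)] 5423 = true :=
  splitS (by decide) hC_1_0_1_0_1_0 (splitS (by decide) hC_1_0_1_0_1_1 (splitS (by decide) hC_1_0_1_0_1_2 (splitZ hC_1_0_1_0_1_3)))

theorem hC_1_0_1_0 : allDiv 1255205709190661721292800
    (fun d => bif pre Ms d then okAll 1255205709190661721292800 (Ds.map PD.fam) Cs d Cts else true)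
    [(11, 1), (7, 3), (5, 2), (3, 16), (2, 21)] 493 = true :=
  splitS (by decide) hC_1_0_1_0_0 (splitZ hC_1_0_1_0_1)

theorem hC_1_0_1_1_0_0 : allDiv 1255205709190661721292800
    (fun d => bif pre Ms d then okAll 1255205709190661721292800 (Ds.map PD.fam) Cs d Cts else true)
    [(5, 2), (3, 16), (2, 21)] 6409 = true := by decide +kernel

theorem hC_1_0_1_1_0_1 : allDiv 1255205709190661721292800
    (fun d => bif pre Ms d then okAll 1255205709190661721292800 (Ds.map PD.fam) Cs d Cts else true)
    [(5, 2), (3, 16), (2, 21)] 44863 = true := by decide +kernel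

theorem hC_1_0_1_1_0_2 : allDiv 1255205709190661721292800
    (fun d => bif pre Ms d then okAll 1255205709190661721292800 (Ds.map PD.fam) Cs d Cts else true)
    [(5, 2), (3, 16), (2, 21)] 314041 = true := by decide +kernel

theorem hC_1_0_1_1_0_3 : allDiv 1255205709190661721292800
    (fun d => bif pre Ms d then okAll 1255205709190661721292800 (Ds.map PD.fam) Cs d Cts else true)
    [(5, 2), (3, 16), (2, 21)] 2198287 = true := by decide +kernel

theorem hC_1_0_1_1_0 : allDiv 1255205709190661721292800
    (fun d => bif pre Ms d then okAll 1255205709190661721292800 (Ds.map PD.fam) Cs d Cts else true)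
    [(7, 3), (5, 2), (3, 16), (2, 21)] 6409 = true :=
  splitS (by decide) hC_1_0_1_1_0_0 (splitS (by decide) hC_1_0_1_1_0_1 (splitS (by decide) hC_1_0_1_1_0_2 (splitZ hC_1_0_1_1_0_3)))

theorem hC_1_0_1_1_1 : allDiv 1255205709190661721292800
    (fun d => bif pre Ms d then okAll 1255205709190661721292800 (Ds.map PD.fam) Cs d Cts else true)
    [(7, 3), (5, 2), (3, 16), (2, 21)] 70499 = true := by decide +kernel

theorem hC_1_0_1_1 : allDiv 1255205709190661721292800
    (fun d => bif pre Ms d then okAll 1255205709190661721292800 (Ds.map PD.fam) Cs d Cts else true)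
    [(11, 1), (7, 3), (5, 2), (3, 16), (2, 21)] 6409 = true :=
  splitS (by decide) hC_1_0_1_1_0 (splitZ hC_1_0_1_1_1)

theorem hC_1_0_1 : allDiv 1255205709190661721292800
    (fun d => bif pre Ms d then okAll 1255205709190661721292800 (Ds.map PD.fam) Cs d Cts else true)
    [(13, 1), (11, 1), (7, 3), (5, 2), (3, 16), (2, 21)] 493 = true :=
  splitS (by decide) hC_1_0_1_0 (splitZ hC_1_0_1_1)

theorem hC_1_0 : allDiv 1255205709190661721292800
    (fun d => bif pre Ms d then okAll 1255205709190661721292800 (Ds.map PD.fam) Cs d Cts else true)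
    [(17, 1), (13, 1), (11, 1), (7, 3), (5, 2), (3, 16), (2, 21)] 29 = true :=
  splitS (by decide) hC_1_0_0 (splitZ hC_1_0_1)

theorem hC_1_1_0_0_0_0 : allDiv 1255205709190661721292800
    (fun d => bif pre Ms d then okAll 1255205709190661721292800 (Ds.map PD.fam) Cs d Cts else true)
    [(5, 2), (3, 16), (2, 21)] 667 = true := by decide +kernel

theorem hC_1_1_0_0_0_1 : allDiv 1255205709190661721292800
    (fun d => bif pre Ms d then okAll 1255205709190661721292800 (Ds.map PD.fam) Cs d Cts else true)
    [(5, 2), (3, 16), (2, 21)] 4669 = true := by decide +kernel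

theorem hC_1_1_0_0_0_2 : allDiv 1255205709190661721292800
    (fun d => bif pre Ms d then okAll 1255205709190661721292800 (Ds.map PD.fam) Cs d Cts else true)
    [(5, 2), (3, 16), (2, 21)] 32683 = true := by decide +kernel

theorem hC_1_1_0_0_0_3 : allDiv 1255205709190661721292800
    (fun d => bif pre Ms d then okAll 1255205709190661721292800 (Ds.map PD.fam) Cs d Cts else true)
    [(5, 2), (3, 16), (2, 21)] 228781 = true := by decide +kernel

theorem hC_1_1_0_0_0 : allDiv 1255205709190661721292800
    (fun d => bif pre Ms d then okAll 1255205709190661721292800 (Ds.map PD.fam) Cs d Cts else true)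
    [(7, 3), (5, 2), (3, 16), (2, 21)] 667 = true :=
  splitS (by decide) hC_1_1_0_0_0_0 (splitS (by decide) hC_1_1_0_0_0_1 (splitS (by decide) hC_1_1_0_0_0_2 (splitZ hC_1_1_0_0_0_3)))

theorem hC_1_1_0_0_1 : allDiv 1255205709190661721292800
    (fun d => bif pre Ms d then okAll 1255205709190661721292800 (Ds.map PD.fam) Cs d Cts else true)
    [(7, 3), (5, 2), (3, 16), (2, 21)] 7337 = true := by decide +kernel

theorem hC_1_1_0_0 : allDiv 1255205709190661721292800
    (fun d => bif pre Ms d then okAll 1255205709190661721292800 (Ds.map PD.fam) Cs d Cts else true)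
    [(11, 1), (7, 3), (5, 2), (3, 16), (2, 21)] 667 = true :=
  splitS (by decide) hC_1_1_0_0_0 (splitZ hC_1_1_0_0_1)

theorem hC_1_1_0_1_0 : allDiv 1255205709190661721292800
    (fun d => bif pre Ms d then okAll 1255205709190661721292800 (Ds.map PD.fam) Cs d Cts else true)
    [(7, 3), (5, 2), (3, 16), (2, 21)] 8671 = true := by decide +kernel

theorem hC_1_1_0_1_1 : allDiv 1255205709190661721292800
    (fun d => bif pre Ms d then okAll 1255205709190661721292800 (Ds.map PD.fam) Cs d Cts else true)
    [(7, 3), (5, 2), (3, 16), (2, 21)] 95381 = true := by decide +kernel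

theorem hC_1_1_0_1 : allDiv 1255205709190661721292800
    (fun d => bif pre Ms d then okAll 1255205709190661721292800 (Ds.map PD.fam) Cs d Cts else true)
    [(11, 1), (7, 3), (5, 2), (3, 16), (2, 21)] 8671 = true :=
  splitS (by decide) hC_1_1_0_1_0 (splitZ hC_1_1_0_1_1)

theorem hC_1_1_0 : allDiv 1255205709190661721292800
    (fun d => bif pre Ms d then okAll 1255205709190661721292800 (Ds.map PD.fam) Cs d Cts else true)
    [(13, 1), (11, 1), (7, 3), (5, 2), (3, 16), (2, 21)] 667 = true :=
  splitS (by decide) hC_1_1_0_0 (splitZ hC_1_1_0_1)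

theorem hC_1_1_1_0_0_0_0 : allDiv 1255205709190661721292800
    (fun d => bif pre Ms d then okAll 1255205709190661721292800 (Ds.map PD.fam) Cs d Cts else true)
    [(3, 16), (2, 21)] 11339 = true := by decide +kernel

theorem hC_1_1_1_0_0_0_1 : allDiv 1255205709190661721292800
    (fun d => bif pre Ms d then okAll 1255205709190661721292800 (Ds.map PD.fam) Cs d Cts else true)
    [(3, 16), (2, 21)] 56695 = true := by decide +kernel

theorem hC_1_1_1_0_0_0_2 : allDiv 1255205709190661721292800
    (fun d => bif pre Ms d then okAll 1255205709190661721292800 (Ds.map PD.fam) Cs d Cts else true)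
    [(3, 16), (2, 21)] 283475 = true := by decide +kernel

theorem hC_1_1_1_0_0_0 : allDiv 1255205709190661721292800
    (fun d => bif pre Ms d then okAll 1255205709190661721292800 (Ds.map PD.fam) Cs d Cts else true)
    [(5, 2), (3, 16), (2, 21)] 11339 = true :=
  splitS (by decide) hC_1_1_1_0_0_0_0 (splitS (by decide) hC_1_1_1_0_0_0_1 (splitZ hC_1_1_1_0_0_0_2))

theorem hC_1_1_1_0_0_1_0 : allDiv 1255205709190661721292800
    (fun d => bif pre Ms d then okAll 1255205709190661721292800 (Ds.map PD.fam) Cs d Cts else true)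
    [(3, 16), (2, 21)] 79373 = true := by decide +kernel

theorem hC_1_1_1_0_0_1_1 : allDiv 1255205709190661721292800
    (fun d => bif pre Ms d then okAll 1255205709190661721292800 (Ds.map PD.fam) Cs d Cts else true)
    [(3, 16), (2, 21)] 396865 = true := by decide +kernel

theorem hC_1_1_1_0_0_1_2 : allDiv 1255205709190661721292800
    (fun d => bif pre Ms d then okAll 1255205709190661721292800 (Ds.map PD.fam) Cs d Cts else true)
    [(3, 16), (2, 21)] 1984325 = true := by decide +kernel

theorem hC_1_1_1_0_0_1 : allDiv 1255205709190661721292800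
    (fun d => bif pre Ms d then okAll 1255205709190661721292800 (Ds.map PD.fam) Cs d Cts else true)
    [(5, 2), (3, 16), (2, 21)] 79373 = true :=
  splitS (by decide) hC_1_1_1_0_0_1_0 (splitS (by decide) hC_1_1_1_0_0_1_1 (splitZ hC_1_1_1_0_0_1_2))

theorem hC_1_1_1_0_0_2_0 : allDiv 1255205709190661721292800
    (fun d => bif pre Ms d then okAll 1255205709190661721292800 (Ds.map PD.fam) Cs d Cts else true)
    [(3, 16), (2, 21)] 555611 = true := by decide +kernel

theorem hC_1_1_1_0_0_2_1 : allDiv 1255205709190661721292800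
    (fun d => bif pre Ms d then okAll 1255205709190661721292800 (Ds.map PD.fam) Cs d Cts else true)
    [(3, 16), (2, 21)] 2778055 = true := by decide +kernel

theorem hC_1_1_1_0_0_2_2 : allDiv 1255205709190661721292800
    (fun d => bif pre Ms d then okAll 1255205709190661721292800 (Ds.map PD.fam) Cs d Cts else true)
    [(3, 16), (2, 21)] 13890275 = true := by decide +kernel

theorem hC_1_1_1_0_0_2 : allDiv 1255205709190661721292800
    (fun d => bif pre Ms d then okAll 1255205709190661721292800 (Ds.map PD.fam) Cs d Cts else true)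
    [(5, 2), (3, 16), (2, 21)] 555611 = true :=
  splitS (by decide) hC_1_1_1_0_0_2_0 (splitS (by decide) hC_1_1_1_0_0_2_1 (splitZ hC_1_1_1_0_0_2_2))

theorem hC_1_1_1_0_0_3 : allDiv 1255205709190661721292800
    (fun d => bif pre Ms d then okAll 1255205709190661721292800 (Ds.map PD.fam) Cs d Cts else true)
    [(5, 2), (3, 16), (2, 21)] 3889277 = true := by decide +kernel

theorem hC_1_1_1_0_0 : allDiv 1255205709190661721292800
    (fun d => bif pre Ms d then okAll 1255205709190661721292800 (Ds.map PD.fam) Cs d Cts else true)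
    [(7, 3), (5, 2), (3, 16), (2, 21)] 11339 = true :=
  splitS (by decide) hC_1_1_1_0_0_0 (splitS (by decide) hC_1_1_1_0_0_1 (splitS (by decide) hC_1_1_1_0_0_2 (splitZ hC_1_1_1_0_0_3)))

theorem hC_1_1_1_0_1_0_0 : allDiv 1255205709190661721292800
    (fun d => bif pre Ms d then okAll 1255205709190661721292800 (Ds.map PD.fam) Cs d Cts else true)
    [(3, 16), (2, 21)] 124729 = true := by decide +kernel

theorem hC_1_1_1_0_1_0_1 : allDiv 1255205709190661721292800
    (fun d => bif pre Ms d then okAll 1255205709190661721292800 (Ds.map PD.fam) Cs d Cts else true)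
    [(3, 16), (2, 21)] 623645 = true := by decide +kernel

theorem hC_1_1_1_0_1_0_2 : allDiv 1255205709190661721292800
    (fun d => bif pre Ms d then okAll 1255205709190661721292800 (Ds.map PD.fam) Cs d Cts else true)
    [(3, 16), (2, 21)] 3118225 = true := by decide +kernel

theorem hC_1_1_1_0_1_0 : allDiv 1255205709190661721292800
    (fun d => bif pre Ms d then okAll 1255205709190661721292800 (Ds.map PD.fam) Cs d Cts else true)
    [(5, 2), (3, 16), (2, 21)] 124729 = true :=
  splitS (by decide) hC_1_1_1_0_1_0_0 (splitS (by decide) hC_1_1_1_0_1_0_1 (splitZ hC_1_1_1_0_1_0_2))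

theorem hC_1_1_1_0_1_1_0 : allDiv 1255205709190661721292800
    (fun d => bif pre Ms d then okAll 1255205709190661721292800 (Ds.map PD.fam) Cs d Cts else true)
    [(3, 16), (2, 21)] 873103 = true := by decide +kernel

theorem hC_1_1_1_0_1_1_1 : allDiv 1255205709190661721292800
    (fun d => bif pre Ms d then okAll 1255205709190661721292800 (Ds.map PD.fam) Cs d Cts else true)
    [(3, 16), (2, 21)] 4365515 = true := by decide +kernel

theorem hC_1_1_1_0_1_1_2 : allDiv 1255205709190661721292800
    (fun d => bif pre Ms d then okAll 1255205709190661721292800 (Ds.map PD.fam) Cs d Cts else true)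
    [(3, 16), (2, 21)] 21827575 = true := by decide +kernel

theorem hC_1_1_1_0_1_1 : allDiv 1255205709190661721292800
    (fun d => bif pre Ms d then okAll 1255205709190661721292800 (Ds.map PD.fam) Cs d Cts else true)
    [(5, 2), (3, 16), (2, 21)] 873103 = true :=
  splitS (by decide) hC_1_1_1_0_1_1_0 (splitS (by decide) hC_1_1_1_0_1_1_1 (splitZ hC_1_1_1_0_1_1_2))

theorem hC_1_1_1_0_1_2 : allDiv 1255205709190661721292800
    (fun d => bif pre Ms d then okAll 1255205709190661721292800 (Ds.map PD.fam) Cs d Cts else true)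
    [(5, 2), (3, 16), (2, 21)] 6111721 = true := by decide +kernel

theorem hC_1_1_1_0_1_3 : allDiv 1255205709190661721292800
    (fun d => bif pre Ms d then okAll 1255205709190661721292800 (Ds.map PD.fam) Cs d Cts else true)
    [(5, 2), (3, 16), (2, 21)] 42782047 = true := by decide +kernel

theorem hC_1_1_1_0_1 : allDiv 1255205709190661721292800
    (fun d => bif pre Ms d then okAll 1255205709190661721292800 (Ds.map PD.fam) Cs d Cts else true)
    [(7, 3), (5, 2), (3, 16), (2, 21)] 124729 = true :=
  splitS (by decide) hC_1_1_1_0_1_0 (splitS (by decide) hC_1_1_1_0_1_1 (splitS (by decide) hC_1_1_1_0_1_2 (splitZ hC_1_1_1_0_1_3)))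

theorem hC_1_1_1_0 : allDiv 1255205709190661721292800
    (fun d => bif pre Ms d then okAll 1255205709190661721292800 (Ds.map PD.fam) Cs d Cts else true)
    [(11, 1), (7, 3), (5, 2), (3, 16), (2, 21)] 11339 = true :=
  splitS (by decide) hC_1_1_1_0_0 (splitZ hC_1_1_1_0_1)

theorem hC_1_1_1_1_0_0_0 : allDiv 1255205709190661721292800
    (fun d => bif pre Ms d then okAll 1255205709190661721292800 (Ds.map PD.fam) Cs d Cts else true)
    [(3, 16), (2, 21)] 147407 = true := by decide +kernel

theorem hC_1_1_1_1_0_0_1 : allDiv 1255205709190661721292800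
    (fun d => bif pre Ms d then okAll 1255205709190661721292800 (Ds.map PD.fam) Cs d Cts else true)
    [(3, 16), (2, 21)] 737035 = true := by decide +kernel

theorem hC_1_1_1_1_0_0_2 : allDiv 1255205709190661721292800
    (fun d => bif pre Ms d then okAll 1255205709190661721292800 (Ds.map PD.fam) Cs d Cts else true)
    [(3, 16), (2, 21)] 3685175 = true := by decide +kernel

theorem hC_1_1_1_1_0_0 : allDiv 1255205709190661721292800
    (fun d => bif pre Ms d then okAll 1255205709190661721292800 (Ds.map PD.fam) Cs d Cts else true)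
    [(5, 2), (3, 16), (2, 21)] 147407 = true :=
  splitS (by decide) hC_1_1_1_1_0_0_0 (splitS (by decide) hC_1_1_1_1_0_0_1 (splitZ hC_1_1_1_1_0_0_2))

theorem hC_1_1_1_1_0_1_0 : allDiv 1255205709190661721292800
    (fun d => bif pre Ms d then okAll 1255205709190661721292800 (Ds.map PD.fam) Cs d Cts else true)
    [(3, 16), (2, 21)] 1031849 = true := by decide +kernel

theorem hC_1_1_1_1_0_1_1 : allDiv 1255205709190661721292800
    (fun d => bif pre Ms d then okAll 1255205709190661721292800 (Ds.map PD.fam) Cs d Cts else true)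
    [(3, 16), (2, 21)] 5159245 = true := by decide +kernel

theorem hC_1_1_1_1_0_1_2 : allDiv 1255205709190661721292800
    (fun d => bif pre Ms d then okAll 1255205709190661721292800 (Ds.map PD.fam) Cs d Cts else true)
    [(3, 16), (2, 21)] 25796225 = true := by decide +kernel

theorem hC_1_1_1_1_0_1 : allDiv 1255205709190661721292800
    (fun d => bif pre Ms d then okAll 1255205709190661721292800 (Ds.map PD.fam) Cs d Cts else true)
    [(5, 2), (3, 16), (2, 21)] 1031849 = true :=
  splitS (by decide) hC_1_1_1_1_0_1_0 (splitS (by decide) hC_1_1_1_1_0_1_1 (splitZ hC_1_1_1_1_0_1_2))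

theorem hC_1_1_1_1_0_2 : allDiv 1255205709190661721292800
    (fun d => bif pre Ms d then okAll 1255205709190661721292800 (Ds.map PD.fam) Cs d Cts else true)
    [(5, 2), (3, 16), (2, 21)] 7222943 = true := by decide +kernel

theorem hC_1_1_1_1_0_3 : allDiv 1255205709190661721292800
    (fun d => bif pre Ms d then okAll 1255205709190661721292800 (Ds.map PD.fam) Cs d Cts else true)
    [(5, 2), (3, 16), (2, 21)] 50560601 = true := by decide +kernel

theorem hC_1_1_1_1_0 : allDiv 1255205709190661721292800
    (fun d => bif pre Ms d then okAll 1255205709190661721292800 (Ds.map PD.fam) Cs d Cts else true)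
    [(7, 3), (5, 2), (3, 16), (2, 21)] 147407 = true :=
  splitS (by decide) hC_1_1_1_1_0_0 (splitS (by decide) hC_1_1_1_1_0_1 (splitS (by decide) hC_1_1_1_1_0_2 (splitZ hC_1_1_1_1_0_3)))

theorem hC_1_1_1_1_1_0 : allDiv 1255205709190661721292800
    (fun d => bif pre Ms d then okAll 1255205709190661721292800 (Ds.map PD.fam) Cs d Cts else true)
    [(5, 2), (3, 16), (2, 21)] 1621477 = true := by decide +kernel

theorem hC_1_1_1_1_1_1 : allDiv 1255205709190661721292800
    (fun d => bif pre Ms d then okAll 1255205709190661721292800 (Ds.map PD.fam) Cs d Cts else true)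
    [(5, 2), (3, 16), (2, 21)] 11350339 = true := by decide +kernel

theorem hC_1_1_1_1_1_2 : allDiv 1255205709190661721292800
    (fun d => bif pre Ms d then okAll 1255205709190661721292800 (Ds.map PD.fam) Cs d Cts else true)
    [(5, 2), (3, 16), (2, 21)] 79452373 = true := by decide +kernel

theorem hC_1_1_1_1_1_3 : allDiv 1255205709190661721292800
    (fun d => bif pre Ms d then okAll 1255205709190661721292800 (Ds.map PD.fam) Cs d Cts else true)
    [(5, 2), (3, 16), (2, 21)] 556166611 = true := by decide +kernel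

theorem hC_1_1_1_1_1 : allDiv 1255205709190661721292800
    (fun d => bif pre Ms d then okAll 1255205709190661721292800 (Ds.map PD.fam) Cs d Cts else true)
    [(7, 3), (5, 2), (3, 16), (2, 21)] 1621477 = true :=
  splitS (by decide) hC_1_1_1_1_1_0 (splitS (by decide) hC_1_1_1_1_1_1 (splitS (by decide) hC_1_1_1_1_1_2 (splitZ hC_1_1_1_1_1_3)))

theorem hC_1_1_1_1 : allDiv 1255205709190661721292800
    (fun d => bif pre Ms d then okAll 1255205709190661721292800 (Ds.map PD.fam) Cs d Cts else true)
    [(11, 1), (7, 3), (5, 2), (3, 16), (2, 21)] 147407 = true :=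
  splitS (by decide) hC_1_1_1_1_0 (splitZ hC_1_1_1_1_1)

theorem hC_1_1_1 : allDiv 1255205709190661721292800
    (fun d => bif pre Ms d then okAll 1255205709190661721292800 (Ds.map PD.fam) Cs d Cts else true)
    [(13, 1), (11, 1), (7, 3), (5, 2), (3, 16), (2, 21)] 11339 = true :=
  splitS (by decide) hC_1_1_1_0 (splitZ hC_1_1_1_1)

theorem hC_1_1 : allDiv 1255205709190661721292800
    (fun d => bif pre Ms d then okAll 1255205709190661721292800 (Ds.map PD.fam) Cs d Cts else true)
    [(17, 1), (13, 1), (11, 1), (7, 3), (5, 2), (3, 16), (2, 21)] 667 = true :=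
  splitS (by decide) hC_1_1_0 (splitZ hC_1_1_1)

theorem hC_1 : allDiv 1255205709190661721292800
    (fun d => bif pre Ms d then okAll 1255205709190661721292800 (Ds.map PD.fam) Cs d Cts else true)
    [(23, 1), (17, 1), (13, 1), (11, 1), (7, 3), (5, 2), (3, 16), (2, 21)] 29 = true :=
  splitS (by decide) hC_1_0 (splitZ hC_1_1)

theorem hC : allDiv 1255205709190661721292800
    (fun d => bif pre Ms d then okAll 1255205709190661721292800 (Ds.map PD.fam) Cs d Cts else true)
    [(29, 1), (23, 1), (17, 1), (13, 1), (11, 1), (7, 3), (5, 2), (3, 16), (2, 21)] 1 = true :=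
  splitS (by decide) hC_0 (splitZ hC_1)

theorem hChk : chkAll 1255205709190661721292800 L Ds Cs Ms Cts = true := hC

section

variable {S : Type u} [Group S] [Finite S] [Fintype (IrrCharacter S)]

theorem ctx [IsSimpleGroup S] (hN : Nat.card S = 1255205709190661721292800) (hx : ∀ D ∈ Ds, D.Cent S) (hC : ∀ c ∈ Cs, c.Holds S) :
    Ctx S (fun g : S => orderOf g) 1255205709190661721292800 L (Ds.map PD.fam) Cs :=
  ctx_of_primes hN (by norm_num) (by decide +kernel) (by decide +kernel) (by decide +kernel) hx hC

variable {lab : S → ℕ}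

theorem cl_all (C : Ctx S lab 1255205709190661721292800 L (Ds.map PD.fam) Cs) : ∀ ct ∈ Cts, Cl S ct.c :=
  cl_of_chkAll C hMs hHead hChk

/-- the clauses -/
def E : List (List ℕ) := [[57477], [249458], [5], [13]] ++ Cts.map Cert.c

theorem cl_E (C : Ctx S lab 1255205709190661721292800 L (Ds.map PD.fam) Cs) (hE : ∀ c ∈ ([[57477], [249458], [5], [13]] : List (List ℕ)), Cl S c) : ∀ c ∈ E, Cl S c := by
  intro c hc
  rcases List.mem_append.1 hc with hc | hc
  · exact hE c hc
  · obtain ⟨ct, hct, rfl⟩ := List.mem_map.1 hc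
    exact cl_all C ct hct

theorem kcDist_29 : chkLay E ((L.map Prod.fst).erase 29) [(29, 0)] false = true := by decide +kernel

theorem kcDist_23 : chkLay E ((L.map Prod.fst).erase 23) [(23, 0)] false = true := by decide +kernel

theorem kcDist_17 : chkLay E ((L.map Prod.fst).erase 17) [(17, 0)] false = true := by decide +kernel

theorem kcDist_13 : chkLay E ((L.map Prod.fst).erase 13) [(13, 0)] false = true := by decide +kernel

theorem kcDist_11 : chkLay E ((L.map Prod.fst).erase 11) [(11, 0)] false = true := by decide +kernel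

theorem kcDist_7 : chkLay E ((L.map Prod.fst).erase 7) [(7, 0)] false = true := by decide +kernel

theorem kcDist_5 : chkLay E ((L.map Prod.fst).erase 5) [(5, 0)] false = true := by decide +kernel

theorem kcDist_3 : chkLay E ((L.map Prod.fst).erase 3) [(3, 0)] false = true := by decide +kernel

theorem kcDist_2 : chkLay E ((L.map Prod.fst).erase 2) [(2, 0)] false = true := by decide +kernel

theorem kcDist : chkDist (L.map Prod.fst) E = true := by
  unfold chkDist
  rw [List.all_eq_true]
  intro p hp
  have hp' : p ∈ ([29, 23, 17, 13, 11, 7, 5, 3, 2] : List ℕ) := hp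
  simp only [List.mem_cons, List.not_mem_nil, or_false] at hp'
  rcases hp' with rfl | rfl | rfl | rfl | rfl | rfl | rfl | rfl | rfl
  · exact kcDist_29
  · exact kcDist_23
  · exact kcDist_17
  · exact kcDist_13
  · exact kcDist_11
  · exact kcDist_7
  · exact kcDist_5
  · exact kcDist_3
  · exact kcDist_2

theorem kcIT : (chkIM (L.map Prod.fst) E && chkTri (L.map Prod.fst) E) = true := by decide +kernel

theorem kcAll : (chkIM (L.map Prod.fst) E && chkTri (L.map Prod.fst) E && chkDist (L.map Prod.fst) E) = true := by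
  rw [kcIT, kcDist]
  rfl

/-- **The facts on the degree graph.** -/
theorem dist_of (C : Ctx S lab 1255205709190661721292800 L (Ds.map PD.fam) Cs) (hE : ∀ c ∈ ([[57477], [249458], [5], [13]] : List (List ℕ)), Cl S c) :
    DistFacts S := C.dist E (cl_E C hE) (by decide) kcAll (by decide)

end

end Cfsg.Agent.H653.Spor.Fi24
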