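import Cfsg.Agent.H653.Sieve.Main

/-!
# The degree graph of `J₁`: certificates (helper653)
-/

set_option autoImplicit false
set_option maxRecDepth 100000
set_option linter.unusedSectionVars false

namespace Cfsg.Agent.H653.Spor.J1

open Cfsg Cfsg.Agent.Characters.Core Cfsg.Agent.H653.Sys Cfsg.Agent.H653.Sieve Cfsg.Agent.H653.Graph

universe u

def L : List (ℕ × ℕ) := [(19, 1), (11, 1), (7, 1), (5, 1), (3, 1), (2, 3)]

def Ds : List PD := [⟨19, 1, 6, 3, [(0, 0), (1, 3), (6, -1), (13, 1), (18, -3)], 57, 3, true⟩,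
  ⟨11, 1, 10, 1, [(0, 0), (1, 1), (10, -1)], 11, 0, false⟩,
  ⟨7, 1, 6, 1, [(0, 0), (1, 1), (6, -1)], 7, 0, false⟩,
  ⟨5, 6, 2, 2, [(0, 0), (1, 2), (2, -1), (2, 4), (3, -4), (3, 1), (4, -2)], 60, 0, false⟩,
  ⟨3, 10, 2, 1, [(0, 0), (1, -2), (1, 1), (1, 4), (2, -4), (2, -1), (2, 2)], 30, 0, false⟩]

def Cs : List Cond := []

section

variable {S : Type u} [Group S] [Finite S] [Fintype (IrrCharacter S)] {lab : S → ℕ}

theorem cl_1 (C : Ctx S lab 175560 L (Ds.map PD.fam) Cs) : Cl S [6] :=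
  C.cl _ 0
    [⟨53, -411, -7803, [-935, -1172, 1301, -130]⟩, ⟨330, -2128, 0, [54107, 6755, -1100]⟩, ⟨-21, -3344, 0, [-1142, -1615]⟩, ⟨-36, -390, 0, [0]⟩, ⟨-15, -780, 0, []⟩]
    [] (by decide +kernel)

theorem cl_2 (C : Ctx S lab 175560 L (Ds.map PD.fam) Cs) : Cl S [10] :=
  C.cl _ 0
    [⟨53, -411, -7803, [-935, 21227, 1301, -130]⟩, ⟨330, -2128, 0, [54107, 6755, -1100]⟩, ⟨-21, -3344, 0, [-1142, -1615]⟩, ⟨-36, -390, 0, [0]⟩, ⟨-15, -780, 0, []⟩]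
    [] (by decide +kernel)

theorem cl_3 (C : Ctx S lab 175560 L (Ds.map PD.fam) Cs) : Cl S [38] :=
  C.cl _ 0
    [⟨-3, -180, -3428, [2617, 1486, -109, 87]⟩, ⟨-5, -935, 0, [-1172, 4751, 452]⟩, ⟨30, -1469, 0, [-502, -710]⟩, ⟨-21, 650, 0, [0]⟩, ⟨-3, 0, 0, []⟩]
    [] (by decide +kernel)

theorem cl_4 (C : Ctx S lab 175560 L (Ds.map PD.fam) Cs) : Cl S [15] :=
  C.cl _ 0
    [⟨53, -411, -7803, [-935, 21227, 1301, -130]⟩, ⟨330, -2128, 0, [54107, 6755, -1100]⟩, ⟨-21, -3344, 0, [-1142, -1615]⟩, ⟨-36, -390, 0, [0]⟩, ⟨-15, -780, 0, []⟩]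
    [] (by decide +kernel)

theorem cl_5 (C : Ctx S lab 175560 L (Ds.map PD.fam) Cs) : Cl S [77] :=
  C.cl _ (-2)
    [⟨-46, -2574, -48909, [13894, -7346, -2509, 7730]⟩, ⟨417, 24633, 0, [-31782, 9487, 16527]⟩, ⟨-132, 67241, 0, [-7160, -10125]⟩, ⟨-71, -2445, 0, [3697]⟩, ⟨-13, 0, 0, []⟩]
    [] (by decide +kernel)

theorem cl_6 (C : Ctx S lab 175560 L (Ds.map PD.fam) Cs) : Cl S [133] :=
  C.cl _ 0
    [⟨11, -172, -3263, [-99, 716, -20, 83]⟩, ⟨-7, -890, 0, [-2287, 2140, 430]⟩, ⟨-9, 5184, 0, [-478, -676]⟩, ⟨7, -163, 0, [0]⟩, ⟨-3, 0, 0, []⟩]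
    [] (by decide +kernel)

theorem cl_7 (C : Ctx S lab 175560 L (Ds.map PD.fam) Cs) : Cl S [209] :=
  C.cl _ 0
    [⟨-5, -237, -4502, [3964, 4607, -1594, 151]⟩, ⟨-9, -1228, 0, [-5560, -526, 783]⟩, ⟨20, -1929, 0, [-659, -1230]⟩, ⟨25, 945, 0, [0]⟩, ⟨-6, 0, 0, []⟩]
    [] (by decide +kernel)

theorem facts_of (C : Ctx S lab 175560 L (Ds.map PD.fam) Cs) (hE : ∀ c ∈ ([] : List (List ℕ)), Cl S c) :
    GraphFacts S := by
  refine C.facts ([] ++ [[6], [10], [38], [15], [77], [133], [209]]) ?_ (by decide) (by decide +kernel) (by decide)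
  intro c hc
  rcases List.mem_append.1 hc with hc | hc
  · exact hE c hc
  simp only [List.mem_cons, List.not_mem_nil, or_false] at hc
  rcases hc with rfl | rfl | rfl | rfl | rfl | rfl | rfl
  · exact cl_1 C
  · exact cl_2 C
  · exact cl_3 C
  · exact cl_4 C
  · exact cl_5 C
  · exact cl_6 C
  · exact cl_7 C

end

end Cfsg.Agent.H653.Spor.J1
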