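import Cfsg.Agent.H653.Sieve.Tab

/-!
# The degree graph of Ru: certificates (helper653)
-/

set_option autoImplicit false
set_option maxRecDepth 100000
set_option linter.unusedSectionVars false

namespace Cfsg.Agent.H653.Spor.Ru

open Cfsg Cfsg.Agent.Characters.Core Cfsg.Agent.H653.Sys Cfsg.Agent.H653.Sieve Cfsg.Agent.H653.Graph

universe u

def L : List (ℕ × ℕ) := [(29, 1), (13, 1), (7, 1), (5, 3), (3, 3), (2, 14)]

def Ds : List PD := [⟨29, 1, 14, 2, [(0, 0), (1, 2), (14, -1), (15, 1), (28, -2)], 58, 2, true⟩]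

def Cs : List Cond := [condDv 783, condDv 3276, condDv 5]

/-- the table of the degrees and column values -/
def B : List (List (ℕ × List ℤ)) := [[],
  [(160, [1]), (1856, [0]), (3393, [0]), (20300, [0]), (63336, [0]), (100224, [0]), (174000, [0]), (296960, [0])],
  [(320, [2]), (2016, [1]), (2175, [0]), (3712, [0]), (6786, [0]), (40600, [0]), (51200, [1]), (126672, [0]), (200448, [0]), (348000, [0])],
  [(5250, [2]), (5568, [0]), (8960, [-2]), (10179, [0]), (30160, [0]), (60900, [0]), (103936, [0]), (190008, [0]), (329875, [0])],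
  [(4032, [2]), (4350, [0]), (7424, [0]), (13572, [0]), (27405, [0]), (81200, [0]), (102400, [2]), (253344, [0]), (378000, [-1])],
  [(58, [0]), (3132, [0]), (9280, [0]), (16965, [0]), (58464, [0]), (101500, [0]), (234000, [-2]), (316680, [0])],
  [(377, [0]), (1755, [1]), (6525, [0]), (11136, [0]), (20358, [0]), (60320, [0]), (121800, [0]), (207872, [0]), (380016, [0])],
  [(378, [2]), (696, [0]), (3770, [0]), (9600, [2]), (12992, [0]), (16384, [-2]), (23751, [0]), (60480, [1]), (65250, [0]), (111360, [0]), (203580, [0])],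
  [(1015, [0]), (8700, [0]), (14848, [0]), (27144, [0]), (47125, [0]), (54810, [0]), (162400, [0])],
  [(7800, [-2]), (10556, [0]), (13312, [2]), (16704, [0]), (29000, [0]), (49140, [-1]), (90480, [0]), (182700, [0]), (311808, [0])],
  [(116, [0]), (6264, [0]), (10875, [0]), (18560, [0]), (33930, [0]), (116928, [0]), (203000, [0])],
  [(117, [2]), (435, [0]), (8120, [0]), (18720, [1]), (69600, [0]), (118784, [0]), (217152, [0]), (377000, [0])],
  [(754, [0]), (3510, [2]), (13050, [0]), (22272, [0]), (40716, [0]), (120640, [0]), (243600, [0])],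
  [(2610, [0]), (22750, [-1]), (24128, [0]), (48720, [0]), (263900, [0])],
  [(14, [-1]), (1392, [0]), (7540, [0]), (15225, [0]), (25984, [0]), (47502, [0]), (120960, [2]), (130500, [0]), (222720, [0])],
  [(15, [1]), (174, [0]), (3248, [0]), (27840, [0]), (50895, [0]), (150800, [0]), (175392, [0]), (221184, [2]), (304500, [0])],
  [(175, [2]), (2030, [0]), (17400, [0]), (28000, [1]), (29696, [0]), (54288, [0]), (94250, [0]), (109620, [0]), (324800, [0])],
  [(812, [0]), (6960, [0]), (20475, [2]), (34944, [-2]), (37700, [0]), (43848, [0]), (76125, [0]), (129920, [0]), (237510, [0])],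
  [(1131, [0]), (19575, [0]), (21112, [0]), (33408, [0]), (58000, [0]), (98280, [-2]), (180960, [0]), (365400, [0])],
  [(72, [-1]), (1450, [0]), (4524, [0]), (7280, [2]), (9135, [0]), (78300, [0]), (84448, [0]), (133632, [0]), (232000, [0])],
  [(232, [0]), (7917, [0]), (12528, [0]), (21750, [0]), (37120, [0]), (67860, [0]), (109200, [1]), (137025, [0]), (186368, [-1]), (233856, [0])],
  [(2088, [0]), (3625, [0]), (11310, [0]), (38976, [0]), (71253, [0]), (89856, [-1]), (195750, [0]), (211120, [0]), (334080, [0])],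
  [(870, [0]), (5481, [0]), (16240, [0]), (37440, [2]), (139200, [0]), (237568, [0]), (254475, [0])],
  [(5800, [0]), (18096, [0]), (27000, [2]), (36540, [0]), (46080, [-2]), (197925, [0]), (313200, [0]), (337792, [0])],
  [(130, [-1]), (1508, [0]), (3045, [0]), (26100, [0]), (44544, [0]), (81432, [0]), (141375, [0]), (241280, [0])],
  [(290, [0]), (1827, [0]), (15660, [0]), (25200, [-2]), (43008, [2]), (46400, [0]), (84825, [0]), (144768, [0]), (292320, [0])],
  [(450, [1]), (609, [0]), (768, [-1]), (5220, [0]), (28275, [0]), (45500, [-2]), (48256, [0]), (97440, [0])],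
  [(928, [0]), (4320, [-2]), (10150, [0]), (31668, [0]), (50112, [0]), (87000, [0]), (148480, [0]), (271440, [0])],
  [(28, [-2]), (2625, [1]), (2784, [0]), (4480, [-1]), (15080, [0]), (30450, [0]), (51968, [0]), (95004, [0]), (261000, [0])],
  [(29, [0]), (1248, [2]), (1566, [0]), (4640, [0]), (29232, [0]), (50750, [0]), (117000, [-1]), (158340, [0]), (199680, [1]), (250560, [0])],
  [(30, [2]), (189, [1]), (348, [0]), (1885, [0]), (4800, [1]), (6496, [0]), (8192, [-1]), (32625, [0]), (55680, [0]), (101790, [0]), (301600, [0]), (350784, [0])],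
  [(3900, [-1]), (5278, [0]), (6656, [1]), (8352, [0]), (14500, [0]), (45240, [0]), (91350, [0]), (155904, [0]), (285012, [0])],
  [(4060, [0]), (34800, [0]), (56000, [2]), (59392, [0]), (108576, [0]), (188500, [0]), (219240, [0])],
  [(1305, [0]), (12064, [0]), (24360, [0]), (131950, [0]), (208800, [0]), (356352, [0])],
  [(87, [0]), (1624, [0]), (13920, [0]), (75400, [0]), (87696, [0]), (110592, [1]), (152250, [0]), (259840, [0])],
  [(406, [0]), (1625, [2]), (3480, [0]), (17472, [-1]), (18850, [0]), (21924, [0]), (64960, [0]), (118755, [0])],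
  [(725, [0]), (2262, [0]), (3640, [1]), (39150, [0]), (42224, [0]), (66816, [0]), (116000, [0]), (361920, [0])],
  [(1044, [0]), (5655, [0]), (19488, [0]), (97875, [0]), (105560, [0]), (167040, [0]), (268800, [-2])],
  [(144, [-2]), (2900, [0]), (9048, [0]), (13500, [1]), (18270, [0]), (23040, [-1]), (156600, [0]), (168896, [0]), (267264, [0])],
  [(145, [0]), (2000, [-2]), (7830, [0]), (12600, [-1]), (21504, [1]), (23200, [0]), (72384, [0]), (146160, [0])],
  [(464, [0]), (2160, [-1]), (5075, [0]), (15834, [0]), (25056, [0]), (43500, [0]), (74240, [0]), (135720, [0]), (218400, [2]), (274050, [0]), (372736, [-2])],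
  [(624, [1]), (783, [0]), (2320, [0]), (14616, [0]), (25375, [0]), (79170, [0]), (125280, [0]), (371200, [0])],
  [(2639, [0]), (4176, [0]), (7250, [0]), (22620, [0]), (45675, [0]), (77952, [0]), (142506, [0]), (179712, [-2])],
  [(3276, [-2]), (6032, [0]), (12180, [0]), (65975, [0]), (83200, [-2]), (104400, [0]), (178176, [0]), (307125, [1]), (325728, [0])],
  [(203, [0]), (1740, [0]), (9425, [0]), (10962, [0]), (32480, [0]), (278400, [0])],
  [(522, [0]), (840, [-2]), (9744, [0]), (52780, [0]), (83520, [0]), (134400, [-1])],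
  [(1000, [-1]), (3915, [0]), (11600, [0]), (36192, [0]), (73080, [0])],
  [(1160, [0]), (7308, [0]), (39585, [0]), (62640, [0]), (185600, [0]), (339300, [0])],
  [(260, [-2]), (1638, [-1]), (3016, [0]), (6090, [0]), (41600, [-1]), (52200, [0]), (89088, [0]), (162864, [0]), (282750, [0])],
  [(261, [0]), (420, [-1]), (4872, [0]), (26390, [0]), (41760, [0]), (226200, [0])],
  [(580, [0]), (3654, [0]), (31320, [0]), (92800, [0]), (169650, [0]), (289536, [0])],
  [(2436, [0]), (13195, [0]), (20880, [0]), (113100, [0]), (193024, [0]), (228375, [0]), (288000, [2])],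
  [(900, [2]), (1218, [0]), (1536, [-2]), (10440, [0]), (56550, [0]), (96512, [0]), (144000, [1]), (194880, [0]), (245760, [-1]), (356265, [0])]]

def RS : List (ℕ × List ℕ) := [(29, [0, 1, 14, 15, 28])]

theorem hB : allDiv 145926144000 (tabD 145926144000 RS (Ds.map PD.fam) 53 B) L 1 = true := by decide +kernel

section

variable {S : Type u} [Group S] [Finite S] [Fintype (IrrCharacter S)]

theorem tab [IsSimpleGroup S] (hN : Nat.card S = 145926144000) (hx : ∀ D ∈ Ds, D.Cent S) (hC : ∀ c ∈ Cs, c.Holds S) :
    Tab S (fun g : S => orderOf g) 145926144000 L (Ds.map PD.fam) Cs B.flatten :=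
  Tab.of_primes hN (by norm_num) (by decide +kernel) (by decide +kernel) rfl (by decide +kernel) hx hB hC

variable {lab : S → ℕ}

theorem cl_1 (C : Tab S lab 145926144000 L (Ds.map PD.fam) Cs B.flatten) : Cl S [10, 15, 35, 65, 145] :=
  C.cl _ 0
    [⟨0, 0, 0, []⟩]
    [0, 0, -1459261] (by decide +kernel)

/-- **The facts on the degree graph**; `Cs` : known degrees, and primes dividing some degree. -/
theorem dist_of (C : Tab S lab 145926144000 L (Ds.map PD.fam) Cs B.flatten) (hE : ∀ c ∈ ([[783], [3276], [5]] : List (List ℕ)), Cl S c) :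
    DistFacts S := by
  refine C.dist ([[783], [3276], [5]] ++ [[10, 15, 35, 65, 145]]) ?_ (by decide) (by decide +kernel) (by decide)
  intro c hc
  rcases List.mem_append.1 hc with hc | hc
  · exact hE c hc
  simp only [List.mem_cons, List.not_mem_nil, or_false] at hc
  rcases hc with rfl
  · exact cl_1 C

end

end Cfsg.Agent.H653.Spor.Ru
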